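import Groth.Prelude.Def_Hoch
import Groth.Prelude.Def_ComodTens

/-!
# Groups over the base ring `k = ℤ_(p)` (Hopf algebras, free over `k`), their modules (comodules), cochains,
the divided power one step extensions, admissible groups, killing lemmas (statements).

`S16912`, block G2 (helper624).  Everything lives in one universe `u`; comodules, Hochschild cochains, tensor products
and restriction of comodules are those of the Prelude (`HopfRep.Comod`, `Hoch.cochain`, `Hoch.d`,
`ComodTens.Comod.tensor`, `GLin.comodAlong`).  DEFINITIONS AND STATEMENTS ONLY.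
-/

set_option autoImplicit false

universe u

open TensorProduct

noncomputable section

namespace Groth.Agent.ResProp.EF.Grp

/-- `k` "is" `ℤ_(p)`. -/
class IsLb (p : ℕ) (k : Type u) [CommRing k] : Prop where
  prime : p.Prime
  dom : IsDomain k
  char0 : CharZero k
  pid : IsPrincipalIdealRing k
  not_unit : ¬ IsUnit (p : k)
  unit_of : ∀ x : k, ¬ (p : k) ∣ x → IsUnit x
  res : ∀ x : k, ∃ n : ℤ, (p : k) ∣ x - n

/-- A group over `k`: a commutative Hopf algebra, free as a `k`-module. -/
structure Gp (k : Type u) [CommRing k] : Type (u + 1) where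
  O : Type u
  [cr : CommRing O]
  [ha : HopfAlgebra k O]
  [fr : Module.Free k O]

attribute [instance] Gp.cr Gp.ha Gp.fr

variable {k : Type u} [CommRing k]

/-- A module over the group `E`: a comodule over its coordinate ring. -/
structure GMod (E : Gp k) : Type (u + 1) where
  V : Type u
  [ag : AddCommGroup V]
  [md : Module k V]
  [co : HopfRep.Comod k E.O V]

attribute [instance] GMod.ag GMod.md GMod.co

section Cochains

variable {E : Gp k}

/-- cochains `M ⊗ O(E)^{⊗ n}` (bracketed to the left) -/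
abbrev GMod.C (M : GMod E) (n : ℕ) : Type u := (Hoch.cochain k E.O M.V n : Type u)

/-- the Hochschild differential -/
abbrev GMod.d (M : GMod E) (n : ℕ) : M.C n →ₗ[k] M.C (n + 1) := Hoch.d k E.O M.V n

/-- tensor product of modules -/
abbrev GMod.tens (M N : GMod E) : GMod E where
  V := M.V ⊗[k] N.V
  co := ComodTens.Comod.tensor M.co N.co

/-- restriction along `E' → E`, i.e. along `φ : O(E) → O(E')` -/
abbrev GMod.res {E' : Gp k} (φ : E.O →ₐc[k] E'.O) (M : GMod E) : GMod E' where
  V := M.V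
  co := GLin.comodAlong φ M.co

/-- the map on cochains induced by a linear map (used for module morphisms) -/
def cmap (M N : GMod E) (f : M.V →ₗ[k] N.V) : (n : ℕ) → (M.C n →ₗ[k] N.C n)
  | 0 => f
  | n + 1 => (cmap M N f n).rTensor E.O

/-- the map on cochains induced by a homomorphism of groups `E' → E` -/
def cres {E' : Gp k} (φ : E.O →ₐc[k] E'.O) (M : GMod E) : (n : ℕ) → (M.C n →ₗ[k] (M.res φ).C n)
  | 0 => LinearMap.id
  | n + 1 => TensorProduct.map (cres φ M n) (φ : E.O →ₐ[k] E'.O).toLinearMap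

/-- `c` is a coboundary (degree `n + 1`) -/
def IsCob (M : GMod E) (n : ℕ) (c : M.C (n + 1)) : Prop := ∃ b : M.C n, M.d n b = c

/-- `M → M ⊗ N`, `m ↦ m ⊗ x` -/
def tmulR (M N : GMod E) (x : N.V) : M.V →ₗ[k] (M.tens N).V := (TensorProduct.mk k M.V N.V).flip x

/-- A module structure on `End T` for which evaluation `End T ⊗ T → T` is a morphism (unique for `T` finite free). -/
structure EndStr (T : GMod E) where
  co : HopfRep.Comod k E.O (Module.End k T.V)
  ev : @Hoch.IsComodHom k _ E.O _ _ _ (Module.End k T.V ⊗[k] T.V) _ _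
    (ComodTens.Comod.tensor co T.co) T.V _ _ T.co (TensorProduct.lift LinearMap.id)

/-- `End T` as a module -/
abbrev EndStr.mod {T : GMod E} (e : EndStr T) : GMod E where
  V := Module.End k T.V
  co := e.co

/-- finite free and non zero -/
structure IsLat (T : GMod E) : Prop where
  free : Module.Free k T.V
  fin : Module.Finite k T.V
  nontriv : Nontrivial T.V

end Cochains

/-! ### The ideal `A^nat` and one step extensions -/

/-- `a ∈ A^nat`: all `a^n / n!` exist (meaningful for `ℤ`-torsion-free rings). -/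
def IsNat {A : Type u} [CommRing A] (a : A) : Prop := ∀ n : ℕ, ((n.factorial : ℕ) : A) ∣ a ^ n

/-- coefficients of a 1-cochain -/
def coef1 {V A : Type u} [AddCommGroup V] [Module k V] [CommRing A] [Algebra k A] (f : V →ₗ[k] k) :
    V ⊗[k] A →ₗ[k] A :=
  (TensorProduct.lid k A).toLinearMap ∘ₗ f.rTensor A

/-- coefficients of a 2-cochain -/
def coef2 {V A : Type u} [AddCommGroup V] [Module k V] [CommRing A] [Algebra k A] (f : V →ₗ[k] k) :
    (V ⊗[k] A) ⊗[k] A →ₗ[k] A ⊗[k] A :=
  (coef1 (k := k) f).rTensor A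

/-- One step extension `E⁺ = V^♯ × E → E` of the group `E` by the divided power group of the finite free module
`V`, with cocycle `z`; characterised by its points in torsion-free `k`-algebras.  `x` is the tautological cochain
`V^♯ × E → V`; it kills `z`. -/
structure OneStep (E : Gp k) : Type (u + 1) where
  V : GMod E
  free : Module.Free k V.V
  fin : Module.Finite k V.V
  z : V.C 2
  hz : V.d 2 z = 0
  nz : ∀ f : V.V →ₗ[k] k, IsNat (coef2 (k := k) (A := E.O) f z)
  E' : Gp k
  ι : E.O →ₐc[k] E'.O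
  x : (V.res ι).C 1
  hx : (V.res ι).d 1 x = cres ι V 2 z
  nx : ∀ f : V.V →ₗ[k] k, IsNat (coef1 (k := k) (A := E'.O) f x)
  univ : ∀ (R : Type u) [CommRing R] [Algebra k R], (∀ n : ℕ, n ≠ 0 → IsSMulRegular R (n : ℕ)) →
    ∀ (g : E.O →ₐ[k] R) (y : V.V ⊗[k] R), (∀ f : V.V →ₗ[k] k, IsNat (coef1 (k := k) f y)) →
      ∃! h : E'.O →ₐ[k] R, h.comp (ι : E.O →ₐ[k] E'.O) = g ∧ h.toLinearMap.lTensor V.V x = y

/-- Admissible groups over `H`: obtained by finitely many one step extensions. -/
inductive Adm (H : Gp k) : (E : Gp k) → (H.O →ₐc[k] E.O) → Prop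
  | base : Adm H H (BialgHom.id k H.O)
  | step (E : Gp k) (ι : H.O →ₐc[k] E.O) (h : Adm H E ι) (S : OneStep E) : Adm H S.E' (S.ι.comp ι)

/-! ### Statements between the blocks -/

/-- 1.1 (Serre): every module is the union of finitely generated submodules, every finitely generated module is a
quotient of a finite free one, and a finitely generated submodule argument for extensions. [G2a] -/
def SerreCover (E : Gp k) : Prop :=
  ∀ M : GMod E, Module.Finite k M.V → ∃ (L : GMod E) (_ : Module.Free k L.V) (_ : Module.Finite k L.V)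
    (q : L.V →ₗ[k] M.V), Hoch.IsComodHom E.O q ∧ Function.Surjective q

/-- 1.2: every 2-cocycle is, up to a coboundary, the image of a 2-cocycle with values in a finite free module. [G2a] -/
def LiftClass2 (E : Gp k) : Prop :=
  ∀ (M : GMod E) (c : M.C 2), M.d 2 c = 0 → ∃ (V : GMod E) (_ : Module.Free k V.V) (_ : Module.Finite k V.V)
    (f : V.V →ₗ[k] M.V) (_ : Hoch.IsComodHom E.O f) (κ : V.C 2), V.d 2 κ = 0 ∧ IsCob M 1 (c - cmap V M f 2 κ)

/-- 1.4 for the group `H`: classes of degree 2 with finite coefficients killed by `p` die after tensoring with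
`End T`, `T` a finite free non zero `H`-module.  (`H^2(H_(F_p), M) = H^2(H, M)`, same cochains.) [G2c + G2d] -/
def KillModP (p : ℕ) (H : Gp k) : Prop :=
  ∀ M : GMod H, Module.Finite k M.V → (∀ m : M.V, (p : k) • m = 0) → ∀ c : M.C 2, M.d 2 c = 0 →
    ∃ (T : GMod H) (_ : IsLat T) (e : EndStr T), IsCob (M.tens e.mod) 1 (cmap M (M.tens e.mod) (tmulR M e.mod 1) 2 c)

/-- `O(H^j)/p` is reduced for `j = 1, 2, 3` (used in 1.5). -/
def RedModP (p : ℕ) (H : Gp k) : Prop :=
  (∀ a : H.O, (p : H.O) ∣ a ^ p → (p : H.O) ∣ a) ∧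
  (∀ a : H.O ⊗[k] H.O, ((p : ℕ) : H.O ⊗[k] H.O) ∣ a ^ p → ((p : ℕ) : H.O ⊗[k] H.O) ∣ a) ∧
  (∀ a : H.O ⊗[k] H.O ⊗[k] H.O, ((p : ℕ) : H.O ⊗[k] H.O ⊗[k] H.O) ∣ a ^ p →
    ((p : ℕ) : H.O ⊗[k] H.O ⊗[k] H.O) ∣ a)

/-- Existence of one step extensions. [G2b] -/
def HasOneStep (E : Gp k) : Prop :=
  ∀ (V : GMod E), Module.Free k V.V → Module.Finite k V.V → ∀ z : V.C 2, V.d 2 z = 0 →
    (∀ f : V.V →ₗ[k] k, IsNat (coef2 (k := k) (A := E.O) f z)) → ∃ S : OneStep E, ∃ e : S.V = V, e ▸ S.z = z

/-- 1.5 THE KILLING LEMMA for `H`. [G2b] -/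
def Kill (H : Gp k) : Prop :=
  ∀ (E : Gp k) (ι : H.O →ₐc[k] E.O), Adm H E ι → ∀ (M : GMod E) (c : M.C 2), M.d 2 c = 0 →
    ∃ (S : OneStep E) (T : GMod H) (_ : IsLat T) (e : EndStr T),
      IsCob ((M.res S.ι).tens (e.mod.res (S.ι.comp ι))) 1
        (cmap (M.res S.ι) ((M.res S.ι).tens (e.mod.res (S.ι.comp ι)))
          (tmulR (M.res S.ι) (e.mod.res (S.ι.comp ι)) 1) 2 (cres S.ι M 2 c))

end Groth.Agent.ResProp.EF.Grp
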