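import Groth.Agent.ResProp.EF.Base
import Groth.Agent.ResProp.EF.Grp
import Groth.Agent.ResProp.EF.K294.Defs
import Groth.Agent.ResProp.EF.K83.FinDatum
import Groth.Agent.ResProp.EF.K477.Gal
import Mathlib.Algebra.Homology.Monoidal

/-!
# S16912: the architecture (helper799).  DEFINITIONS AND STATEMENTS ONLY.

Everything is about a groupoid ring `A : NFᵒᵖ ⥤ CommRingCat` (Base.lean), `R = A⟨0⟩`, `Γ = A⟨1⟩`, of finite type over
`k = ℤ_(p)` (`IsLb p k`, `GRF k A`), and one point `x : PrimeSpectrum R`.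

* `CoverDatum`  (I)   output of G1, input of ALG (G3 - G5);
* `KernelDatum` (II)  output of ALG, input of G6;
* `RepDatum`    (III) output of G6, input of F4 / F5;
* `LocHit`      output of F4 / F5 for one point, input of OverZ;
* `Hit`         output of OverZ, input of HitToEF (F3).
The top theorem is in `ArchTop.lean`.
-/

set_option autoImplicit false
set_option linter.dupNamespace false

open CategoryTheory CategoryTheory.Limits Opposite TensorProduct

noncomputable section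

namespace Groth.Agent.ResProp.EF.Arch

open K784.BC K784.PM K741.RP EF56 K294 Grp

universe u

/-! ## 0. Groupoid rings of finite type over `k`, algebras over them -/

section Base

variable (k : Type u) [CommRing k]

/-- `A` is a flat groupoid ring of finite type over `k` -/
class GRF (A : NFᵒᵖ ⥤ CommRingCat.{u}) where
  gr : GR A
  alg : ∀ a : NF, Algebra k (A.obj (op a))
  map_k : ∀ {a b : NF} (φ : a ⟶ b) (r : k),
    rg A φ (algebraMap k (A.obj (op b)) r) = algebraMap k (A.obj (op a)) r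
  ft : Algebra.FiniteType k (A.obj (op ⟨0⟩))
  fts : (rg A (pr ⟨0⟩)).FiniteType

variable {k} {A : NFᵒᵖ ⥤ CommRingCat.{u}}

instance algk [GRF k A] (a : NF) : Algebra k (A.obj (op a)) := GRF.alg a

/-- a stack affine over the stack of `A` : an `R`-algebra `D = D⟨0⟩` with semilinear `Γ`-coaction -/
structure AffOver (A : NFᵒᵖ ⥤ CommRingCat.{u}) where
  D : NFᵒᵖ ⥤ CommRingCat.{u}
  j : A ⟶ D
  cart : CartHom j

instance AffOver.alg (Y : AffOver A) (a : NF) : Algebra (A.obj (op a)) (Y.D.obj (op a)) :=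
  (Y.j.app (op a)).hom.toAlgebra

theorem AffOver.algebraMap_def (Y : AffOver A) (a : NF) (r : A.obj (op a)) :
    algebraMap (A.obj (op a)) (Y.D.obj (op a)) r = (Y.j.app (op a)).hom r := rfl

instance AffOver.algk [GRF k A] (Y : AffOver A) (a : NF) : Algebra k (Y.D.obj (op a)) :=
  ((algebraMap (A.obj (op a)) (Y.D.obj (op a))).comp (algebraMap k (A.obj (op a)))).toAlgebra

instance AffOver.tower [GRF k A] (Y : AffOver A) (a : NF) :
    IsScalarTower k (A.obj (op a)) (Y.D.obj (op a)) := IsScalarTower.of_algebraMap_eq' rfl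

/-- the maps of `D` are `k`-linear -/
def AffOver.rk [GRF k A] (Y : AffOver A) {a b : NF} (φ : a ⟶ b) :
    Y.D.obj (op b) →ₐ[k] Y.D.obj (op a) :=
  { rg Y.D φ with
    commutes' := fun r => by
      change rg Y.D φ ((Y.j.app (op b)).hom (algebraMap k (A.obj (op b)) r)) =
        (Y.j.app (op a)).hom (algebraMap k (A.obj (op a)) r)
      rw [← GRF.map_k φ r]
      have := congrArg (fun f => f.hom (algebraMap k (A.obj (op b)) r)) (Y.j.naturality φ.op)
      exact this.symm }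

end Base

/-! ## I. The cover datum (output of G1) -/

section Cover

variable (k : Type u) [CommRing k] (A : NFᵒᵖ ⥤ CommRingCat.{u}) [GRF k A]

/-- **(I)** A nice modification around the point `x`: a group `H` for which the killing lemma holds, a `Γ`-equivariant
`R`-algebra `D` of finite type with commuting `H`-coaction, the quotient of `Spec D` by `Γ` being the affine scheme
`Spec C`, with a `FinDatum` (`[Spec D / H]` is projective over `R`) and a point over `x`. -/
structure CoverDatum (x : PrimeSpectrum (A.obj (op ⟨0⟩))) : Type (u + 1) where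
  H : Gp k
  kill : Kill H
  Y : AffOver A
  ft : Algebra.FiniteType (A.obj (op ⟨0⟩)) (Y.D.obj (op ⟨0⟩))
  C : Type u
  [crC : CommRing C]
  gal : K477.Gal Y.D C
  ρ : ∀ a : NF, K83.CoAlg k H.O (Y.D.obj (op a))
  ρ_nat : ∀ {a b : NF} (φ : a ⟶ b) (z : Y.D.obj (op b)),
    (ρ a).ρ (rg Y.D φ z) = (Y.rk (k := k) φ).toLinearMap.rTensor H.O ((ρ b).ρ z)
  ρ_lin : ∀ (a : NF) (r : A.obj (op a)),
    (ρ a).ρ (algebraMap (A.obj (op a)) (Y.D.obj (op a)) r) = algebraMap (A.obj (op a)) (Y.D.obj (op a)) r ⊗ₜ 1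
  /-- the same coaction over the base ring `R` -/
  cR : K83.CoAlg (A.obj (op ⟨0⟩)) ((A.obj (op ⟨0⟩)) ⊗[k] H.O) (Y.D.obj (op ⟨0⟩))
  cR_eq : ∀ z : Y.D.obj (op ⟨0⟩),
    Algebra.TensorProduct.cancelBaseChange k (A.obj (op ⟨0⟩)) (A.obj (op ⟨0⟩)) (Y.D.obj (op ⟨0⟩)) H.O (cR.ρ z) =
      (ρ ⟨0⟩).ρ z
  fin : K83.FinDatum (A.obj (op ⟨0⟩)) ((A.obj (op ⟨0⟩)) ⊗[k] H.O) (Y.D.obj (op ⟨0⟩)) cR
  pt : ∃ y : PrimeSpectrum (Y.D.obj (op ⟨0⟩)), PrimeSpectrum.comap (algebraMap (A.obj (op ⟨0⟩)) _) y = x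

attribute [instance] CoverDatum.crC

end Cover

/-! ## II. The kernel datum (output of G3 + G4 + G5) -/

section Kernel

variable {k : Type u} [CommRing k] {A : NFᵒᵖ ⥤ CommRingCat.{u}} [GRF k A]

/-- the `k`-module structure of the value of a presheaf of modules over `A` -/
instance pmk (M : PM.{u} A) (a : NF) : Module k (M.obj a) := Module.compHom _ (algebraMap k (A.obj (op a)))

theorem pmk_smul (M : PM.{u} A) (a : NF) (r : k) (m : M.obj a) :
    r • m = algebraMap k (A.obj (op a)) r • m := rfl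

instance pmk_tower (M : PM.{u} A) (a : NF) : IsScalarTower k (A.obj (op a)) (M.obj a) :=
  ⟨fun r s m => by rw [pmk_smul, Algebra.smul_def, mul_smul]⟩

/-- the maps of a presheaf of modules are `k`-linear -/
def mapk (M : PM.{u} A) {a b : NF} (φ : a ⟶ b) : M.obj b →ₗ[k] M.obj a :=
  { M.map φ with
    map_smul' := fun r m => by
      change M.map φ (algebraMap k (A.obj (op b)) r • m) = algebraMap k (A.obj (op a)) r • M.map φ m
      rw [M.map_smul, GRF.map_k] }

/-- multiplication by an element of `A⟨a⟩` is `k`-linear -/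
def mulk (M : PM.{u} A) (a : NF) (r : A.obj (op a)) : M.obj a →ₗ[k] M.obj a :=
  ((Algebra.lsmul k (A.obj (op a)) (M.obj a)) r : M.obj a →ₗ[A.obj (op a)] M.obj a).restrictScalars k

/-- an action of the group `E` on `M` (all `A⟨a⟩`-linear, natural in `a`, i.e. commuting with the `Γ`-coaction) -/
structure ECo (E : Gp k) (M : PM.{u} A) where
  co : ∀ a : NF, HopfRep.Comod k E.O (M.obj a)
  lin : ∀ (a : NF) (r : A.obj (op a)) (m : M.obj a),
    (co a).coact (r • m) = (mulk (k := k) M a r).rTensor E.O ((co a).coact m)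
  nat : ∀ {a b : NF} (φ : a ⟶ b) (m : M.obj b),
    (co a).coact (M.map φ m) = (mapk (k := k) M φ).rTensor E.O ((co b).coact m)

variable (k A)

/-- an object with `Γ`-coaction, commuting `E`-coaction and a `P`-action on the chart (`P` an `R`-algebra; NO
compatibility between the `P`-action and the coactions) -/
structure SObj (E : Gp k) (P : Type u) [CommRing P] [Algebra (A.obj (op ⟨0⟩)) P] : Type (u + 1) where
  M : PM.{u} A
  cart : M.Cart
  e : ECo E M
  [pm : Module P (M.obj ⟨0⟩)]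
  [tw : IsScalarTower (A.obj (op ⟨0⟩)) P (M.obj ⟨0⟩)]

attribute [instance] SObj.pm SObj.tw

variable {k A}

section

variable {E : Gp k} {P : Type u} [CommRing P] [Algebra (A.obj (op ⟨0⟩)) P]

/-- morphisms: natural, `E`-equivariant, `P`-linear on the chart -/
structure SObj.Hom (X X' : SObj k A E P) where
  f : ∀ a : NF, X.M.obj a →ₗ[A.obj (op a)] X'.M.obj a
  nat : ∀ {a b : NF} (φ : a ⟶ b) (m : X.M.obj b), f a (X.M.map φ m) = X'.M.map φ (f b m)
  equi : ∀ (a : NF) (m : X.M.obj a),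
    (X'.e.co a).coact (f a m) = ((f a).restrictScalars k).rTensor E.O ((X.e.co a).coact m)
  pl : ∀ (q : P) (m : X.M.obj ⟨0⟩), f ⟨0⟩ (q • m) = q • f ⟨0⟩ m

end

variable {x : PrimeSpectrum (A.obj (op ⟨0⟩))}

/-- pure objects: `(D, Γ, H)`-modules, `P` acting through `π : P → D`, `E` through `H` -/
structure Pure (c : CoverDatum k A x) {E : Gp k} (ι : c.H.O →ₐc[k] E.O)
    {P : Type u} [CommRing P] [Algebra (A.obj (op ⟨0⟩)) P] (π : P →ₐ[A.obj (op ⟨0⟩)] c.Y.D.obj (op ⟨0⟩))
    (X : SObj k A E P) where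
  md : ∀ a : NF, Module (c.Y.D.obj (op a)) (X.M.obj a)
  tower : ∀ (a : NF) (r : A.obj (op a)) (m : X.M.obj a),
    (md a).smul (algebraMap (A.obj (op a)) (c.Y.D.obj (op a)) r) m = r • m
  map_smul : ∀ {a b : NF} (φ : a ⟶ b) (d : c.Y.D.obj (op b)) (m : X.M.obj b),
    X.M.map φ ((md b).smul d m) = (md a).smul (rg c.Y.D φ d) (X.M.map φ m)
  act : ∀ (q : P) (m : X.M.obj ⟨0⟩), q • m = (md ⟨0⟩).smul (π q) m
  coH : ∀ a : NF, HopfRep.Comod k c.H.O (X.M.obj a)
  through : ∀ (a : NF) (m : X.M.obj a),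
    (X.e.co a).coact m = (ι : c.H.O →ₐ[k] E.O).toLinearMap.lTensor (X.M.obj a) ((coH a).coact m)
  hopf : ∀ (a : NF) (d : c.Y.D.obj (op a)) (m : X.M.obj a),
    (coH a).coact ((md a).smul d m) =
      TensorProduct.map₂
        (letI := md a
         haveI : IsScalarTower k (c.Y.D.obj (op a)) (X.M.obj a) := ⟨fun r s n => by
            rw [Algebra.smul_def, mul_smul]
            exact tower a (algebraMap k (A.obj (op a)) r) _⟩
         (Algebra.lsmul k k (X.M.obj a)).toLinearMap)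
        (LinearMap.mul k c.H.O) ((c.ρ a).ρ d) ((coH a).coact m)

/-- small objects: finite successive extensions of pure ones -/
inductive Small (c : CoverDatum k A x) {E : Gp k} (ι : c.H.O →ₐc[k] E.O)
    {P : Type u} [CommRing P] [Algebra (A.obj (op ⟨0⟩)) P] (π : P →ₐ[A.obj (op ⟨0⟩)] c.Y.D.obj (op ⟨0⟩)) :
    SObj k A E P → Prop
  | zero (X : SObj k A E P) : Subsingleton (X.M.obj ⟨0⟩) → Small c ι π X
  | pure (X : SObj k A E P) : Nonempty (Pure c ι π X) → Small c ι π X
  | ext (X' X X'' : SObj k A E P) (i : X'.Hom X) (q : X.Hom X'') :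
      Function.Injective (i.f ⟨0⟩) → Function.Exact (i.f ⟨0⟩) (q.f ⟨0⟩) → Function.Surjective (q.f ⟨0⟩) →
      Small c ι π X' → Small c ι π X'' → Small c ι π X

/-- the complex of `R`-modules underlying a complex of `SObj` -/
def chartCx {E : Gp k} {P : Type u} [CommRing P] [Algebra (A.obj (op ⟨0⟩)) P] (K : ℤ → SObj k A E P)
    (d : ∀ n : ℤ, (K n).Hom (K (n + 1))) (dd : ∀ (n : ℤ) (m : (K n).M.obj ⟨0⟩),
      (d (n + 1)).f ⟨0⟩ ((d n).f ⟨0⟩ m) = 0) : CM (A.obj (op ⟨0⟩)) :=
  CochainComplex.of (fun n => ModuleCat.of (A.obj (op ⟨0⟩)) ((K n).M.obj ⟨0⟩))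
    (fun n => ModuleCat.ofHom ((d n).f ⟨0⟩)) (fun n => by
      apply ModuleCat.hom_ext
      exact LinearMap.ext (dd n))

/-- **(II)** The kernel datum: an admissible group `E → H`, a bounded complex `K` of objects with `Γ`-coaction, commuting
`E`-coaction and `P`-action on the chart (`P → D` onto, `P` of finite type over `R`), all terms small and finite over `P`, of
Tor-amplitude `≥ -e` on the chart, in degrees `[-e, 0]`, with `H^0(K) ⊗ κ(x) ≠ 0`. -/
structure KernelDatum (c : CoverDatum k A x) : Type (u + 1) where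
  E : Gp k
  ι : c.H.O →ₐc[k] E.O
  adm : Adm c.H E ι
  P : Type u
  [crP : CommRing P]
  [alP : Algebra (A.obj (op ⟨0⟩)) P]
  ftP : Algebra.FiniteType (A.obj (op ⟨0⟩)) P
  π : P →ₐ[A.obj (op ⟨0⟩)] c.Y.D.obj (op ⟨0⟩)
  π_surj : Function.Surjective π
  e : ℕ
  K : ℤ → SObj k A E P
  d : ∀ n : ℤ, (K n).Hom (K (n + 1))
  dd : ∀ (n : ℤ) (m : (K n).M.obj ⟨0⟩), (d (n + 1)).f ⟨0⟩ ((d n).f ⟨0⟩ m) = 0
  bdd : ∀ n : ℤ, n < -e ∨ 0 < n → Subsingleton ((K n).M.obj ⟨0⟩)
  small : ∀ n : ℤ, Small c ι π (K n)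
  fin : ∀ n : ℤ, Module.Finite P ((K n).M.obj ⟨0⟩)
  tor : TorGE (-e : ℤ) (chartCx K d dd)
  top : ¬ Function.Surjective (LinearMap.lTensor x.asIdeal.ResidueField ((d (-1)).f ⟨0⟩))

attribute [instance] KernelDatum.crP KernelDatum.alP

end Kernel

/-! ## The Props of G1 and ALG -/

/-- **Cover** (G1): cover data exist -/
def StmtCover : Prop := ∀ (p : ℕ) (k : Type u) [CommRing k] [IsLb p k] (A : NFᵒᵖ ⥤ CommRingCat.{u}) [GRF k A]
  (x : PrimeSpectrum (A.obj (op ⟨0⟩))), Nonempty (CoverDatum k A x)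

/-- **Kernel** (G3 + G4 + G5): kernel data exist -/
def StmtKernel : Prop := ∀ (p : ℕ) (k : Type u) [CommRing k] [IsLb p k] (A : NFᵒᵖ ⥤ CommRingCat.{u}) [GRF k A]
  (x : PrimeSpectrum (A.obj (op ⟨0⟩))) (c : CoverDatum k A x), Nonempty (KernelDatum c)

end Groth.Agent.ResProp.EF.Arch
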