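import Groth.Agent.ResProp.EF.Arch
import Groth.Agent.ResProp.EF.X56.Final_330
import Groth.Agent.ResProp.EF.F5.Main
import Groth.Agent.ResProp.EF.K654.RepDatum
import Groth.Agent.ResProp.EF.K944.Loc
import Groth.Agent.ResProp.EF.K209.Lb
import Groth.Agent.ResProp.EF.K276.HitEF
import Groth.Agent.ResProp.EF.K741.ComodAb
import Groth.Agent.ResProp.EF.K799.LocGRF

/-!
# S16912: the assembled theorem, with the Props of the blocks as hypotheses (helper799)

`frozen_of_blocks : StmtCover → StmtKernel → StmtKernelHit → StmtC3 → StmtOverZ → EF56.Frozen`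
(`stmtChartEx`, `stmtHitToEF`, `stmtLocGRF` are proved here).
-/

set_option autoImplicit false
set_option linter.dupNamespace false
set_option linter.style.haveILetI false

open CategoryTheory CategoryTheory.Limits Opposite TensorProduct HomologicalComplex

noncomputable section

namespace Groth.Agent.ResProp.EF.Arch

open K784.BC K784.PM K741.RP EF56 K294 Grp

universe w v u

/-! ## Local statements about an abstract chart -/

section Abs

variable {R : Type u} [CommRing R] {C : Type v} [Category.{w} C] [Abelian C] (X : Chart R C)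

/-- all classes with coefficients in (a flat resolution of) `κ(x)` are hit by perfect complexes -/
def ResHit (x : PrimeSpectrum R) : Prop :=
  ∀ N : CM R, IsTest N → Nonempty (N.homology 0 ≅ ModuleCat.of R x.asIdeal.ResidueField) → F5.AllHit X N

/-- a bounded complex of flat modules all of whose classes are hit, not acyclic at `x` -/
structure HitCx (x : PrimeSpectrum R) (K : CM R) : Prop where
  bdd : F5.Bdd K
  flat : ∀ n : ℤ, Module.Flat R (K.X n)
  hit : F5.AllHit X K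
  nz : ∃ j : ℤ, ¬ ((((PerfB.RingKFlat.TR R).flip.obj (ModuleCat.of R x.asIdeal.ResidueField)).mapHomologicalComplex
    (ComplexShape.up ℤ)).obj K).ExactAt j

end Abs

/-- `X` is a chart of the stack of `A` -/
def IsChart (A : NFᵒᵖ ⥤ CommRingCat.{u}) [Fact (GR A)] (X : Chart (A.obj (op ⟨0⟩)) (Comod A)) : Prop := X.us = vst A

/-! ## The blocks -/

/-- charts exist (F1) -/
def StmtChartEx : Prop := ∀ (A : NFᵒᵖ ⥤ CommRingCat.{u}) [Fact (GR A)],
  ∃ X : Chart (A.obj (op ⟨0⟩)) (Comod A), IsChart A X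

/-- F3 -/
def StmtHitToEF : Prop := ∀ (A : NFᵒᵖ ⥤ CommRingCat.{u}) [Fact (GR A)] (X : Chart (A.obj (op ⟨0⟩)) (Comod A)),
  IsChart A X → X.HitToEF

/-- G6 + F5: the kernel datum gives a complex all of whose classes are hit -/
def StmtKernelHit : Prop := ∀ (p : ℕ) (k : Type u) [CommRing k] [IsLb p k] (A : NFᵒᵖ ⥤ CommRingCat.{u}) [GRF k A]
  [Fact (GR A)] (X : Chart (A.obj (op ⟨0⟩)) (Comod A)), IsChart A X →
  ∀ (x : PrimeSpectrum (A.obj (op ⟨0⟩))) (c : CoverDatum k A x), KernelDatum c → ∃ K, HitCx X x K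

/-- F4, C1 - C3 -/
def StmtC3 : Prop := ∀ (A : NFᵒᵖ ⥤ CommRingCat.{u}) [Fact (GR A)] (X : Chart (A.obj (op ⟨0⟩)) (Comod A)),
  IsChart A X → IsNoetherianRing (A.obj (op ⟨0⟩)) → ∀ (x : PrimeSpectrum (A.obj (op ⟨0⟩))) (K : CM (A.obj (op ⟨0⟩))),
    HitCx X x K → ResHit X x

/-- `A ⊗ ℤ_(p)` and `A ⊗ ℚ` are of finite type over `ℤ_(p)`, `ℤ_(2)` -/
def StmtLocGRF : Prop := ∀ (A : NFᵒᵖ ⥤ CommRingCat.{u}), GRZ A →
  (∀ (p : ℕ) [Fact p.Prime], Nonempty (GRF (K209.Lb.{u} p) (K944.lam (K209.Lb.{u} p) A))) ∧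
    ∃ (p : ℕ) (_ : Fact p.Prime), Nonempty (GRF (K209.Lb.{u} p) (K944.lam (ULift.{u} ℚ) A))

/-- F4, OverZ: hits over all `X_(p)` and over `X_ℚ` give hits over `X` -/
def StmtOverZ : Prop := ∀ (A : NFᵒᵖ ⥤ CommRingCat.{u}) [Fact (GR A)], GRZ A →
  (∀ (p : ℕ) [Fact p.Prime] [Fact (GR (K944.lam (K209.Lb.{u} p) A))]
    (X : Chart ((K944.lam (K209.Lb.{u} p) A).obj (op ⟨0⟩)) (Comod (K944.lam (K209.Lb.{u} p) A))),
      IsChart _ X → ∀ x, ResHit X x) →
  (∀ [Fact (GR (K944.lam (ULift.{u} ℚ) A))]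
    (X : Chart ((K944.lam (ULift.{u} ℚ) A).obj (op ⟨0⟩)) (Comod (K944.lam (ULift.{u} ℚ) A))),
      IsChart _ X → ∀ x, ResHit X x) →
  ∀ (X : Chart (A.obj (op ⟨0⟩)) (Comod A)), IsChart A X → X.Hit

/-! ## Closed blocks -/

theorem stmtChartEx : StmtChartEx.{u} := fun _ hA => ⟨K276.chart hA.out, rfl⟩

theorem stmtHitToEF : StmtHitToEF.{u} := by
  intro A hA X _
  haveI := (K276.comodPkg hA.out).gr
  haveI : HasColimitsOfSize.{0, 0} (Comod A) := hasColimitsOfSizeShrink.{0, 0, u, u} (Comod A)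
  exact X.hitToEF

theorem stmtLocGRF : StmtLocGRF.{u} := fun _ hA =>
  ⟨fun p _ => K799.exists_grf_p hA p, 2, K799.fact2, K799.exists_grf_Q hA⟩

/-! ## The assembly -/

theorem isNoetherianRing_of_grf {p : ℕ} (k : Type u) [CommRing k] [h : IsLb p k] (A : NFᵒᵖ ⥤ CommRingCat.{u})
    [GRF k A] : IsNoetherianRing (A.obj (op ⟨0⟩)) := by
  have : IsPrincipalIdealRing k := h.pid
  have : Algebra.FiniteType k (A.obj (op ⟨0⟩)) := GRF.ft
  exact Algebra.FiniteType.isNoetherianRing k _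

/-- the local theorem -/
theorem resHit_of_blocks (h1 : StmtCover.{u}) (h2 : StmtKernel.{u}) (h3 : StmtKernelHit.{u}) (h4 : StmtC3.{u})
    (p : ℕ) (k : Type u) [CommRing k] [IsLb p k] (A : NFᵒᵖ ⥤ CommRingCat.{u}) [GRF k A]
    [Fact (GR A)] (X : Chart (A.obj (op ⟨0⟩)) (Comod A)) (hX : IsChart A X) (x : PrimeSpectrum (A.obj (op ⟨0⟩))) :
    ResHit X x := by
  obtain ⟨c⟩ := h1 p k A x
  obtain ⟨κ⟩ := h2 p k A x c
  obtain ⟨K, hK⟩ := h3 p k A X hX x c κ
  exact h4 A X hX (isNoetherianRing_of_grf (p := p) k A) x K hK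

/-- enough flats over `ℤ` -/
theorem ef_of_blocks (h1 : StmtCover.{u}) (h2 : StmtKernel.{u}) (h3 : StmtKernelHit.{u}) (h4 : StmtC3.{u})
    (h5 : StmtOverZ.{u}) (A : NFᵒᵖ ⥤ CommRingCat.{u}) (hA : GRZ A) : EF A := by
  haveI : Fact (GR A) := ⟨hA.toGR⟩
  obtain ⟨X, hX⟩ := stmtChartEx A
  have hit : X.Hit := by
    refine h5 A hA ?_ ?_ X hX
    · intro p hp _ X' hX' x
      obtain ⟨g⟩ := (stmtLocGRF A hA).1 p
      haveI := K209.isLb.{u} p
      exact resHit_of_blocks h1 h2 h3 h4 p (K209.Lb.{u} p) _ X' hX' x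
    · intro _ X' hX' x
      obtain ⟨p, hp, ⟨g⟩⟩ := (stmtLocGRF A hA).2
      haveI := K209.isLb.{u} p
      exact resHit_of_blocks h1 h2 h3 h4 p (K209.Lb.{u} p) _ X' hX' x
  have ef : X.EF := stmtHitToEF A X hX hit
  refine K276.stmtEFComod A hA.toGR fun M => ?_
  obtain ⟨F, q, hq, hF⟩ := ef M
  refine ⟨F, q, ?_, hq⟩
  rw [← hX]
  exact hF

/-- **S16912 from the blocks** -/
theorem frozen_of_blocks (h1 : StmtCover.{u}) (h2 : StmtKernel.{u}) (h3 : StmtKernelHit.{u}) (h4 : StmtC3.{u})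
    (h5 : StmtOverZ.{u}) : Frozen.{u} :=
  frozen_of_all_GRZ (ef_of_blocks h1 h2 h3 h4 h5)

end Groth.Agent.ResProp.EF.Arch
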