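import Groth.Agent.ResProp.EF.X56.NF
import Mathlib.Algebra.Category.ModuleCat.Presheaf.Colimits
import Mathlib.Algebra.Category.ModuleCat.Presheaf.Limits
import Mathlib.Algebra.Category.ModuleCat.Presheaf.Abelian
import Mathlib.Algebra.Category.ModuleCat.Presheaf.Monoidal
import Mathlib.CategoryTheory.Abelian.Subcategory
import Mathlib.CategoryTheory.Abelian.GrothendieckCategory.Basic

/-!
# Base definitions of the S16912 project (helper56): DEFINITIONS ONLY

* `NF`, `GR A`, `GRZ A`, `EF A` (X56/NF.lean): groupoid rings `A : NFᵒᵖ ⥤ CommRingCat`, `R = A⟨0⟩`, `Γ = A⟨1⟩`.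
* `Comod A` : cartesian presheaves of modules over `A` (= comodules over `(R, Γ)` = quasi-coherent sheaves on the stack),
  a full subcategory of `PresheafOfModules`; `vst A : Comod A ⥤ ModuleCat R` (`v^*`, evaluation at `⟨0⟩`).
* `AbsChart R AA` : the abstract chart (an abelian category with `v^*`, `v_*`); `EnoughFlats v`.
* Props: `StmtComodAbelian`, `StmtComodChart` (Comod A is a Grothendieck abelian category with an abstract chart),
  `StmtEFComod` (`EnoughFlats (vst A) → EF A`).
* `CartHom j`, `j : B ⟶ A` natural, all squares pushouts: the stack of `A` is affine over the stack of `B`; an algebra `D` with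
  `Γ`-coaction over `(R, Γ)` is a `CartHom (j : A ⟶ D)`, `D⟨n⟩ = O(Y ×_X S_n)`.
-/

set_option autoImplicit false
set_option linter.dupNamespace false

open CategoryTheory CategoryTheory.Limits Opposite

namespace EF56

open K784.BC K784.PM K741.RP

universe w v u

section Comod

variable (A : NFᵒᵖ ⥤ CommRingCat.{u})

/-- the presheaf of rings -/
abbrev rf : NFᵒᵖ ⥤ RingCat.{u} := A ⋙ forget₂ CommRingCat.{u} RingCat.{u}

variable {A}

/-- a presheaf of modules as a `PM` -/
noncomputable def toPM (M : PresheafOfModules.{u} (rf A)) : PM.{u} A where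
  obj a := M.obj (op a)
  grp a := (M.obj (op a)).isAddCommGroup
  mod a := (M.obj (op a)).isModule
  map φ := (M.map φ.op).hom.toAddMonoidHom
  map_smul φ r m := M.map_smul φ.op r m
  map_id z m := by
    change M.map (𝟙 (op z)) m = m
    rw [M.map_id]
    rfl
  map_comp ψ φ m := M.map_comp_apply φ.op ψ.op m

variable (A)

/-- cartesian presheaves of modules -/
def isCart : ObjectProperty (PresheafOfModules.{u} (rf A)) := fun M => (toPM M).Cart

/-- comodules = quasi-coherent sheaves on the stack of the groupoid ring -/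
abbrev Comod := (isCart A).FullSubcategory

/-- `v^*` : evaluation on the chart -/
noncomputable def vst : Comod A ⥤ ModuleCat.{u} (A.obj (op ⟨0⟩)) :=
  (isCart A).ι ⋙ PresheafOfModules.evaluation (rf A) (op ⟨0⟩)

end Comod

/-- a cartesian morphism of groupoid rings: the stack of `A` is affine over the stack of `B` -/
def CartHom {A B : NFᵒᵖ ⥤ CommRingCat.{u}} (j : B ⟶ A) : Prop :=
  ∀ {a b : NF} (φ : a ⟶ b), IsPO (rg B φ) (j.app (op b)).hom (j.app (op a)).hom (rg A φ)

section Abs

variable (R : Type u) [CommRing R] (AA : Type w) [Category.{v} AA] [Abelian AA]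

/-- **the abstract chart**: `v = v^*` and `p = v_*` -/
structure AbsChart where
  /-- `v^*` -/
  v : AA ⥤ ModuleCat.{u} R
  /-- `v_*` -/
  p : ModuleCat.{u} R ⥤ AA
  adj : v ⊣ p
  addv : v.Additive
  addp : p.Additive
  fin_lim : PreservesFiniteLimits v
  faithful : v.Faithful
  p_fin_colim : PreservesFiniteColimits p
  p_colim : PreservesColimitsOfSize.{u, u} p
  flat : ∀ N : ModuleCat.{u} R, Module.Flat R N → Module.Flat R (v.obj (p.obj N))

variable {R AA}

/-- enough flats -/
def EnoughFlats (v : AA ⥤ ModuleCat.{u} R) : Prop :=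
  ∀ M : AA, ∃ (F : AA) (q : F ⟶ M), Module.Flat R (v.obj F) ∧ Epi q

end Abs

/-- an abelian structure, Grothendieck, with an abstract chart `(vst A, v_*)`; `u`-small colimits -/
structure ComodPkg (A : NFᵒᵖ ⥤ CommRingCat.{u}) where
  ab : Abelian (Comod A)
  gr : IsGrothendieckAbelian.{u} (Comod A)
  ch : AbsChart.{u + 1, u, u} (A.obj (op ⟨0⟩)) (Comod A)
  v_eq : ch.v = vst A

/-- Comod A is Grothendieck abelian and has an abstract chart -/
def StmtComodPkg : Prop := ∀ (A : NFᵒᵖ ⥤ CommRingCat.{u}), GR A → Nonempty (ComodPkg A)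

/-- enough flats in the sense of `Comod` give `EF` -/
def StmtEFComod : Prop := ∀ (A : NFᵒᵖ ⥤ CommRingCat.{u}), GR A → EnoughFlats (vst A) → EF A

end EF56
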